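import Mathlib
import Cfsg.Agent.Lib.SylowIn
import Cfsg.Agent.Lib.H1Amb

/-!
# Subgroups generated by `p`-elements, orbits, and counting Sylow subgroups
-/

set_option autoImplicit false
set_option linter.unusedSectionVars false

namespace CfsgLib.SylNum

open Subgroup MulAction CfsgLib.H1

scoped notation:75 g:76 " ⋆ " H:75 => Subgroup.map (MulEquiv.toMonoidHom (MulAut.conj g)) H
scoped notation "𝐍(" H ")" => Subgroup.normalizer (SetLike.coe H)
scoped notation "𝐂(" H ")" => Subgroup.centralizer (SetLike.coe H)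

variable {G : Type*} [Group G]

/-- the subgroup generated by the `p`-elements of `H` -/
def gen (p : ℕ) (H : Subgroup G) : Subgroup G :=
  closure {g : G | g ∈ H ∧ ∃ k : ℕ, orderOf g = p ^ k}

/-- the number of Sylow `p`-subgroups of `G` inside `H` -/
noncomputable def nu (p : ℕ) (H : Subgroup G) : ℕ :=
  {S : Sylow p G | (S : Subgroup G) ≤ H}.ncard

section gen
variable {p : ℕ}

theorem gen_le (H : Subgroup G) : gen p H ≤ H := (closure_le _).2 fun _ h => h.1

theorem gen_mono {H L : Subgroup G} (h : H ≤ L) : gen p H ≤ gen p L :=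
  closure_mono fun _ hg => ⟨h hg.1, hg.2⟩

theorem gen_gen (H : Subgroup G) : gen p (gen p H) = gen p H :=
  le_antisymm (gen_le _) (closure_mono fun _ hg => ⟨subset_closure hg, hg.2⟩)

theorem le_gen {X H : Subgroup G} (hX : gen p X = X) (h : X ≤ H) : X ≤ gen p H :=
  hX.ge.trans (gen_mono h)

theorem gen_le_iff {H K : Subgroup G} :
    gen p H ≤ K ↔ ∀ g ∈ H, ∀ k : ℕ, orderOf g = p ^ k → g ∈ K :=
  (closure_le _).trans ⟨fun h g hg k hk => h ⟨hg, k, hk⟩, fun h g ⟨hg, k, hk⟩ => h g hg k hk⟩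

theorem mem_gen {H : Subgroup G} {g : G} {k : ℕ} (hg : g ∈ H) (hk : orderOf g = p ^ k) :
    g ∈ gen p H := subset_closure ⟨hg, k, hk⟩

theorem gen_sup {X Y : Subgroup G} (hX : gen p X = X) (hY : gen p Y = Y) :
    gen p (X ⊔ Y) = X ⊔ Y :=
  le_antisymm (gen_le _) (sup_le (le_gen hX le_sup_left) (le_gen hY le_sup_right))

theorem map_gen_le [Fact p.Prime] {G' : Type*} [Group G'] (f : G →* G') (H : Subgroup G) :
    (gen p H).map f ≤ gen p (H.map f) := by
  rw [map_le_iff_le_comap, gen_le_iff]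
  intro g hg k hk
  obtain ⟨j, -, hj⟩ := (Nat.dvd_prime_pow Fact.out).1 (hk ▸ orderOf_map_dvd f g)
  exact mem_gen (mem_map_of_mem f hg) hj

theorem gen_conj [Fact p.Prime] (g : G) (H : Subgroup G) : gen p (g ⋆ H) = g ⋆ gen p H := by
  refine le_antisymm ?_ (map_gen_le _ _)
  have := map_mono (f := (MulAut.conj g).toMonoidHom)
    (map_gen_le (p := p) (MulAut.conj g⁻¹).toMonoidHom (g ⋆ H))
  rwa [map_conj_map_conj_inv, map_conj_inv_map_conj] at this

theorem norm_le_norm_gen [Fact p.Prime] (H : Subgroup G) : 𝐍(H) ≤ 𝐍(gen p H) := fun g hg =>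
  mem_normalizer_of_map_conj_eq (by rw [← gen_conj, map_conj_eq_of_mem_normalizer hg])

theorem le_norm_gen [Fact p.Prime] (H : Subgroup G) : H ≤ 𝐍(gen p H) :=
  le_normalizer.trans (norm_le_norm_gen H)

theorem gen_of_isPGroup [Fact p.Prime] {P : Subgroup G} (h : IsPGroup p P) : gen p P = P := by
  refine le_antisymm (gen_le _) fun x hx => ?_
  obtain ⟨k, hk⟩ := IsPGroup.iff_orderOf.1 h ⟨x, hx⟩
  exact mem_gen hx (by rw [← hk, orderOf_mk])

theorem syl_le_gen [Fact p.Prime] {S : Sylow p G} {H : Subgroup G} (h : (S : Subgroup G) ≤ H) :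
    (S : Subgroup G) ≤ gen p H := le_gen (gen_of_isPGroup S.isPGroup') h

theorem isPGroup_zpowers' {g : G} {k : ℕ} (hk : orderOf g = p ^ k) : IsPGroup p (zpowers g) :=
  IsPGroup.of_card (n := k) (by rw [Nat.card_zpowers, hk])

variable [Finite G] [hp : Fact p.Prime]

theorem gen_le_of_normal {S Y D : Subgroup G} (hS : IsSylowIn p S Y) (h1 : S ≤ D)
    (h2 : Y ≤ 𝐍(D)) : gen p Y ≤ D := by
  rw [gen_le_iff]
  intro g hg k hk
  obtain ⟨x, hx, h3⟩ := hS.exists_conj_le (isPGroup_zpowers' hk) (zpowers_le_of_mem hg)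
  have := conj_mem_of_mem_normalizer' (h2 hx) (h1 (h3 (conj_mem_map_conj (mem_zpowers g))))
  simpa [mul_assoc] using this

theorem gen_le_of_normal' {S : Sylow p G} {Y D : Subgroup G} (h0 : (S : Subgroup G) ≤ Y)
    (h1 : (S : Subgroup G) ≤ D) (h2 : Y ≤ 𝐍(D)) : gen p Y ≤ D :=
  gen_le_of_normal (IsSylowIn.of_sylow S h0) h1 h2

theorem relIndex_ne_zero' (H K : Subgroup G) : H.relIndex K ≠ 0 := index_ne_zero_of_finite

theorem relIndex_eq_pow {P : Subgroup G} (hP : IsPGroup p P) (H : Subgroup G) :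
    ∃ k, H.relIndex P = p ^ k := hP.index (H.subgroupOf P)

theorem le_of_relIndex_lt {Y H : Subgroup G} (hY : gen p Y = Y) (h : H.relIndex Y < p) :
    Y ≤ H := by
  refine hY.ge.trans (gen_le_iff.2 fun g hg k hk => ?_)
  obtain ⟨j, hj⟩ := relIndex_eq_pow (isPGroup_zpowers' hk) H
  have h1 := (relIndex_le_of_le_right (zpowers_le_of_mem hg) (relIndex_ne_zero' _ _)).trans_lt h
  rcases j with _ | j
  · exact relIndex_eq_one.1 hj (mem_zpowers g)
  · rw [hj] at h1
    exact absurd (Nat.le_self_pow (Nat.succ_ne_zero j) p) h1.not_ge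

theorem dvd_relIndex {P H : Subgroup G} (hP : IsPGroup p P) (h : ¬ P ≤ H) : p ∣ H.relIndex P := by
  obtain ⟨k, hk⟩ := relIndex_eq_pow hP H
  rcases k with _ | k
  · exact absurd (relIndex_eq_one.1 hk) h
  · exact hk ▸ dvd_pow_self p (Nat.succ_ne_zero k)

theorem not_dvd_relIndex {S : Sylow p G} {H Y : Subgroup G} (h1 : (S : Subgroup G) ≤ H)
    (h2 : (S : Subgroup G) ≤ Y) : ¬ p ∣ H.relIndex Y := fun h =>
  (IsSylowIn.of_sylow S h2).not_dvd (h.trans (relIndex_dvd_of_le_left Y h1))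

theorem nu_gen (H : Subgroup G) : nu p (gen p H) = nu p H := by
  unfold nu
  congr 1
  ext S
  exact ⟨fun h => le_trans h (gen_le H), syl_le_gen⟩

theorem nu_mono {H K : Subgroup G} (h : H ≤ K) : nu p H ≤ nu p K :=
  Set.ncard_le_ncard (fun _ hS => le_trans hS h)

theorem nu_pos {S : Sylow p G} {H : Subgroup G} (h : (S : Subgroup G) ≤ H) : 0 < nu p H :=
  (Set.ncard_pos (Set.toFinite _)).2 ⟨S, h⟩

theorem exists_of_nu_pos {H : Subgroup G} (h : 0 < nu p H) :
    ∃ S : Sylow p G, (S : Subgroup G) ≤ H := (Set.ncard_pos (Set.toFinite _)).1 h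

theorem exists_smul_eq_of_le {S T : Sylow p G} {Y : Subgroup G} (h1 : (S : Subgroup G) ≤ Y)
    (h2 : (T : Subgroup G) ≤ Y) : ∃ y ∈ Y, y • S = T := by
  obtain ⟨y, hy, e⟩ := (IsSylowIn.of_sylow T h2).exists_conj_eq (IsSylowIn.of_sylow S h1)
  exact ⟨y, hy, Sylow.ext (by rw [sylow_coe_smul_eq_map, e])⟩

theorem smul_syl_le {S : Sylow p G} {Y : Subgroup G} (h : (S : Subgroup G) ≤ Y) {y : G}
    (hy : y ∈ 𝐍(Y)) : ((y • S : Sylow p G) : Subgroup G) ≤ Y := by
  rw [sylow_coe_smul_eq_map, ← map_conj_eq_of_mem_normalizer hy]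
  exact map_mono h

theorem le_of_forall_syl {S : Sylow p G} {X Y : Subgroup G} (h1 : (S : Subgroup G) ≤ Y)
    (h : ∀ T : Sylow p G, (T : Subgroup G) ≤ Y → (T : Subgroup G) ≤ X) : gen p Y ≤ X := by
  rw [gen_le_iff]
  intro g hg k hk
  obtain ⟨x, hx, h3⟩ := (IsSylowIn.of_sylow S h1).exists_conj_le (isPGroup_zpowers' hk)
    (zpowers_le_of_mem hg)
  refine h _ (smul_syl_le h1 (le_normalizer (inv_mem hx))) ?_
  rw [sylow_coe_smul_eq_map, mem_map_conj_iff, inv_inv]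
  exact h3 (conj_mem_map_conj (mem_zpowers g))

theorem le_of_nu_le {S : Sylow p G} {X Y : Subgroup G} (h1 : (S : Subgroup G) ≤ Y) (h2 : X ≤ Y)
    (h : nu p Y ≤ nu p X) : gen p Y ≤ X := by
  have := Set.eq_of_subset_of_ncard_le (s := {T : Sylow p G | (T : Subgroup G) ≤ X})
    (t := {T : Sylow p G | (T : Subgroup G) ≤ Y}) (fun _ hS => le_trans hS h2) h
  exact le_of_forall_syl h1 fun T hT => this.ge hT

end gen

section act
variable {Ω : Type*} [MulAction G Ω]

/-- orbit of a subgroup -/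
def orb (Y : Subgroup G) (b : Ω) : Set Ω := {c | ∃ y ∈ Y, y • b = c}

/-- invariant sets -/
def Inv (Y : Subgroup G) (A : Set Ω) : Prop := ∀ y ∈ Y, ∀ a ∈ A, y • a ∈ A

/-- fixed points -/
def Fx (H : Subgroup G) : Set Ω := {a | H ≤ stabilizer G a}

/-- number of fixed points in `A` -/
noncomputable def fx (S : Subgroup G) (A : Set Ω) : ℕ := (A ∩ Fx S).ncard

/-- number of moved points in `A`, over `p` -/
noncomputable def mm (p : ℕ) (S : Subgroup G) (A : Set Ω) : ℕ := (A \ Fx S).ncard / p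

theorem mem_orb_self (Y : Subgroup G) (b : Ω) : b ∈ orb Y b := ⟨1, one_mem Y, one_smul G b⟩

theorem smul_mem_orb {Y : Subgroup G} {y : G} (hy : y ∈ Y) (b : Ω) : y • b ∈ orb Y b :=
  ⟨y, hy, rfl⟩

theorem inv_orb (Y : Subgroup G) (b : Ω) : Inv Y (orb Y b) := by
  rintro y hy _ ⟨x, hx, rfl⟩
  exact ⟨y * x, mul_mem hy hx, mul_smul y x b⟩

theorem Inv.orb_subset {Y : Subgroup G} {A : Set Ω} (h : Inv Y A) {a : Ω} (ha : a ∈ A) :
    orb Y a ⊆ A := by
  rintro _ ⟨x, hx, rfl⟩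
  exact h x hx a ha

theorem Inv.mono {Y Z : Subgroup G} {A : Set Ω} (h : Inv Y A) (hZ : Z ≤ Y) : Inv Z A :=
  fun y hy => h y (hZ hy)

theorem Inv.of_smul {Y : Subgroup G} {A : Set Ω} (h : Inv Y A) {y : G} (hy : y ∈ Y) {a : Ω}
    (ha : y • a ∈ A) : a ∈ A := by
  simpa using h y⁻¹ (inv_mem hy) _ ha

theorem Inv.diff {Y : Subgroup G} {A B : Set Ω} (h : Inv Y A) (h' : Inv Y B) : Inv Y (A \ B) :=
  fun y hy a ha => ⟨h y hy a ha.1, fun e => ha.2 (h'.of_smul hy e)⟩

theorem Inv.inter {Y : Subgroup G} {A B : Set Ω} (h : Inv Y A) (h' : Inv Y B) : Inv Y (A ∩ B) :=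
  fun y hy a ha => ⟨h y hy a ha.1, h' y hy a ha.2⟩

theorem Inv.union {Y : Subgroup G} {A B : Set Ω} (h : Inv Y A) (h' : Inv Y B) : Inv Y (A ∪ B) :=
  fun y hy a ha => ha.imp (h y hy a) (h' y hy a)

theorem Inv.compl {Y : Subgroup G} {A : Set Ω} (h : Inv Y A) : Inv Y Aᶜ :=
  fun _ hy _ ha e => ha (h.of_smul hy e)

theorem inv_univ (Y : Subgroup G) : Inv Y (Set.univ : Set Ω) := fun _ _ _ _ => trivial

theorem inv_singleton {Y : Subgroup G} {a : Ω} (h : Y ≤ stabilizer G a) : Inv Y {a} := by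
  rintro y hy _ rfl
  exact h hy

theorem Inv.sup {Y Z : Subgroup G} {A : Set Ω} (h : Inv Y A) (h' : Inv Z A) : Inv (Y ⊔ Z) A := by
  intro y hy
  rw [sup_eq_closure] at hy
  have key : ∀ a, a ∈ A ↔ y • a ∈ A := by
    induction hy using closure_induction with
    | mem x hx =>
      exact fun a => Or.elim hx (fun hx => ⟨h x hx a, h.of_smul hx⟩)
        fun hx => ⟨h' x hx a, h'.of_smul hx⟩
    | one => simp
    | mul x y _ _ h1 h2 => exact fun a => by rw [mul_smul, ← h1, ← h2]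
    | inv x _ h1 => exact fun a => by rw [h1 (x⁻¹ • a), smul_inv_smul]
  exact fun a => (key a).1

theorem orb_eq {Y : Subgroup G} {b c : Ω} (h : c ∈ orb Y b) : orb Y c = orb Y b := by
  refine ((inv_orb Y b).orb_subset h).antisymm ((inv_orb Y c).orb_subset ?_)
  obtain ⟨y, hy, rfl⟩ := h
  exact ⟨y⁻¹, inv_mem hy, inv_smul_smul y b⟩

theorem orb_symm {Y : Subgroup G} {b c : Ω} (h : c ∈ orb Y b) : b ∈ orb Y c :=
  orb_eq h ▸ mem_orb_self Y b

theorem orb_mono {Y Z : Subgroup G} (h : Z ≤ Y) (b : Ω) : orb Z b ⊆ orb Y b :=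
  fun _ ⟨y, hy, e⟩ => ⟨y, h hy, e⟩

theorem orb_disjoint {Y : Subgroup G} {b c : Ω} (h : c ∉ orb Y b) :
    Disjoint (orb Y b) (orb Y c) :=
  Set.disjoint_left.2 fun _ h1 h2 => h (orb_eq h1 ▸ orb_symm h2)

theorem ncard_orb (Y : Subgroup G) (b : Ω) : (orb Y b).ncard = (stabilizer G b).relIndex Y := by
  have : orb Y b = orbit Y b := by
    ext c
    exact ⟨fun ⟨y, hy, e⟩ => ⟨⟨y, hy⟩, e⟩, fun ⟨y, e⟩ => ⟨y, y.2, e⟩⟩
  rw [this, ← index_stabilizer]
  rfl

theorem stab_smul (g : G) (a : Ω) : stabilizer G (g • a) = g ⋆ stabilizer G a :=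
  stabilizer_smul_eq_stabilizer_map_conj g a

theorem conj_le_stab {g : G} {H : Subgroup G} {a : Ω} :
    g ⋆ H ≤ stabilizer G (g • a) ↔ H ≤ stabilizer G a := by
  rw [stab_smul]
  exact map_le_map_iff_of_injective (MulAut.conj g).injective

theorem inv_Fx {Y H : Subgroup G} (h : Y ≤ 𝐍(H)) : Inv Y (Fx H : Set Ω) := fun y hy a ha => by
  have := (conj_le_stab (g := y)).2 ha
  rwa [map_conj_eq_of_mem_normalizer (h hy)] at this

theorem smul_mem_orb_conj {g : G} {Y : Subgroup G} {b c : Ω} :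
    g • c ∈ orb (g ⋆ Y) (g • b) ↔ c ∈ orb Y b := by
  constructor
  · rintro ⟨y, hy, e⟩
    exact ⟨_, mem_map_conj_iff.1 hy, by rw [mul_smul, mul_smul, e, inv_smul_smul]⟩
  · rintro ⟨y, hy, rfl⟩
    exact ⟨_, conj_mem_map_conj hy, by rw [mul_smul, mul_smul, inv_smul_smul]⟩

theorem ncard_eq_of_smul (g : G) {A B : Set Ω} (h : ∀ x, x ∈ A ↔ g • x ∈ B) :
    A.ncard = B.ncard := by
  rw [← Set.ncard_image_of_injective A (MulAction.injective g)]
  congr 1
  ext x
  exact ⟨fun ⟨y, hy, e⟩ => e ▸ (h y).1 hy,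
    fun hx => ⟨g⁻¹ • x, (h _).2 (by rwa [smul_inv_smul]), smul_inv_smul g x⟩⟩

theorem le_norm_fixing [Finite G] {Y : Subgroup G} {A : Set Ω} (h : Inv Y A) :
    Y ≤ 𝐍(fixingSubgroup G A) := fun y hy => mem_normalizer_of_conj_mem fun x hx => by
  rw [mem_fixingSubgroup_iff] at hx ⊢
  intro a ha
  rw [mul_smul, mul_smul, hx _ (h _ (inv_mem hy) a ha), smul_inv_smul]

theorem le_fixing {H : Subgroup G} {A : Set Ω} :
    H ≤ fixingSubgroup G A ↔ ∀ a ∈ A, H ≤ stabilizer G a :=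
  ⟨fun h a ha _ hx => (mem_fixingSubgroup_iff G).1 (h hx) a ha,
    fun h _ hx => (mem_fixingSubgroup_iff G).2 fun a ha => h a ha hx⟩

theorem inv_induction [Finite Ω] {Y : Subgroup G} {Φ : Set Ω → Prop} (h0 : Φ ∅)
    (h1 : ∀ A B, Disjoint A B → Inv Y A → Inv Y B → Φ A → Φ B → Φ (A ∪ B)) (A : Set Ω)
    (hA : Inv Y A) (h2 : ∀ a ∈ A, Φ (orb Y a)) : Φ A := by
  induction A using WellFoundedLT.induction with
  | ind A ih =>
  rcases A.eq_empty_or_nonempty with rfl | ⟨a, ha⟩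
  · exact h0
  rw [← Set.union_diff_cancel (hA.orb_subset ha)]
  refine h1 _ _ Set.disjoint_sdiff_right (inv_orb Y a) (hA.diff (inv_orb Y a)) (h2 a ha)
    (ih _ ?_ (hA.diff (inv_orb Y a)) fun b hb => h2 b hb.1)
  exact Set.diff_subset.ssubset_of_ne fun e => (e.ge ha).2 (mem_orb_self Y a)

/-- double counting -/
theorem double_count {Ω' : Type*} [MulAction G Ω'] [Finite Ω] [Finite Ω'] (Y : Subgroup G)
    (r : Ω → Ω' → Prop) (hr : ∀ y ∈ Y, ∀ a b, r a b ↔ r (y • a) (y • b)) (a : Ω) (b : Ω') :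
    (orb Y a).ncard * {c ∈ orb Y b | r a c}.ncard =
      (orb Y b).ncard * {c ∈ orb Y a | r c b}.ncard := by
  classical
  rw [Set.ncard_eq_toFinset_card (orb Y a), Set.ncard_eq_toFinset_card (orb Y b)]
  refine Finset.card_mul_eq_card_mul r (fun x hx => ?_) fun x hx => ?_
  · obtain ⟨y, hy, rfl⟩ := (Set.Finite.mem_toFinset _).1 hx
    rw [← Set.ncard_coe_finset]
    refine (ncard_eq_of_smul y fun c => ?_).symm
    simp only [Set.mem_setOf_eq, Finset.bipartiteAbove, Finset.coe_filter, Set.Finite.mem_toFinset]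
    exact and_congr ⟨inv_orb Y b y hy c, (inv_orb Y b).of_smul hy⟩ (hr y hy a c)
  · obtain ⟨y, hy, rfl⟩ := (Set.Finite.mem_toFinset _).1 hx
    rw [← Set.ncard_coe_finset]
    refine (ncard_eq_of_smul y fun c => ?_).symm
    simp only [Set.mem_setOf_eq, Finset.bipartiteBelow, Finset.coe_filter, Set.Finite.mem_toFinset]
    exact and_congr ⟨inv_orb Y a y hy c, (inv_orb Y a).of_smul hy⟩ (hr y hy c b)

variable {p : ℕ} [Finite G] [hp : Fact p.Prime]

theorem orb_syl {S : Sylow p G} {Y : Subgroup G} (h : (S : Subgroup G) ≤ Y) :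
    orb Y S = {T : Sylow p G | (T : Subgroup G) ≤ Y} := by
  ext T
  exact ⟨fun ⟨y, hy, e⟩ => e ▸ smul_syl_le h (le_normalizer hy), exists_smul_eq_of_le h⟩

theorem nu_eq_relIndex {S : Sylow p G} {Y : Subgroup G} (h : (S : Subgroup G) ≤ Y) :
    nu p Y = (𝐍((S : Subgroup G))).relIndex Y := by
  rw [nu, ← orb_syl h, ncard_orb, Sylow.stabilizer_eq_normalizer]
  rfl

theorem nu_conj (g : G) (H : Subgroup G) : nu p (g ⋆ H) = nu p H :=
  (ncard_eq_of_smul g fun S => by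
    simp only [Set.mem_setOf_eq, sylow_coe_smul_eq_map]
    exact (map_le_map_iff_of_injective (MulAut.conj g).injective).symm).symm

variable [Finite Ω]

theorem fx_mul_nu {S : Sylow p G} {Y : Subgroup G} (h : (S : Subgroup G) ≤ Y) (b : Ω) :
    fx (S : Subgroup G) (orb Y b) * nu p Y = (orb Y b).ncard * nu p (Y ⊓ stabilizer G b) := by
  have := double_count Y (fun (a : Ω) (T : Sylow p G) => (T : Subgroup G) ≤ stabilizer G a)
    (fun y _ a T => by rw [sylow_coe_smul_eq_map, conj_le_stab]) b S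
  rw [orb_syl h] at this
  rw [mul_comm]
  refine this.symm.trans ?_
  congr 2
  ext T
  simp

theorem fx_union (S : Subgroup G) {A B : Set Ω} (h : Disjoint A B) :
    fx S (A ∪ B) = fx S A + fx S B := by
  rw [fx, Set.union_inter_distrib_right, 
    Set.ncard_union_eq (h.mono Set.inter_subset_left Set.inter_subset_left)]
  rfl

theorem dvd_moved {S : Subgroup G} (hS : IsPGroup p S) {A : Set Ω} (hA : Inv S A) :
    p ∣ (A \ Fx S).ncard := by
  refine inv_induction (Y := S) (Φ := fun A => p ∣ A.ncard) (by simp) ?_ _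
    (hA.diff (inv_Fx le_normalizer)) fun a ha => ?_
  · intro A B h _ _ h1 h2
    rw [Set.ncard_union_eq h]
    exact dvd_add h1 h2
  · rw [ncard_orb]
    exact dvd_relIndex hS ha.2

theorem mul_mm {S : Subgroup G} (hS : IsPGroup p S) {A : Set Ω} (hA : Inv S A) :
    p * mm p S A = (A \ Fx S).ncard := Nat.mul_div_cancel' (dvd_moved hS hA)

theorem ncard_eq {S : Subgroup G} (hS : IsPGroup p S) {A : Set Ω} (hA : Inv S A) :
    A.ncard = fx S A + p * mm p S A := by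
  rw [mul_mm hS hA, fx, Set.ncard_inter_add_ncard_diff_eq_ncard]

theorem mm_union {S : Subgroup G} (hS : IsPGroup p S) {A B : Set Ω} (h : Disjoint A B)
    (hA : Inv S A) (hB : Inv S B) : mm p S (A ∪ B) = mm p S A + mm p S B := by
  refine Nat.eq_of_mul_eq_mul_left hp.out.pos ?_
  rw [mul_add, mul_mm hS hA, mul_mm hS hB, mul_mm hS (hA.union hB), Set.union_diff_distrib,
    Set.ncard_union_eq (h.mono Set.diff_subset Set.diff_subset)]

theorem fx_mono (S : Subgroup G) {A B : Set Ω} (h : A ⊆ B) : fx S A ≤ fx S B :=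
  Set.ncard_le_ncard (Set.inter_subset_inter_left _ h)

theorem mm_mono (S : Subgroup G) {A B : Set Ω} (h : A ⊆ B) : mm p S A ≤ mm p S B :=
  Nat.div_le_div_right (Set.ncard_le_ncard (Set.diff_subset_diff_left h))

theorem fx_pos {S : Subgroup G} {A : Set Ω} {a : Ω} (ha : a ∈ A) (h : S ≤ stabilizer G a) :
    0 < fx S A := (Set.ncard_pos (Set.toFinite _)).2 ⟨a, ha, h⟩

theorem mm_pos {S : Subgroup G} (hS : IsPGroup p S) {A : Set Ω} (hA : Inv S A) {a : Ω}
    (ha : a ∈ A) (h : ¬ S ≤ stabilizer G a) : 0 < mm p S A := by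
  refine Nat.pos_of_mul_pos_left (a := p) ?_
  rw [mul_mm hS hA]
  exact (Set.ncard_pos (Set.toFinite _)).2 ⟨a, ha, h⟩

theorem fix_of_mm_eq_zero {S : Subgroup G} (hS : IsPGroup p S) {A : Set Ω} (hA : Inv S A)
    (h : mm p S A = 0) {a : Ω} (ha : a ∈ A) : S ≤ stabilizer G a := by
  by_contra e
  exact (mm_pos hS hA ha e).ne' h

/-- additive properties of the pair `(fx, mm)` pass from orbits to invariant sets -/
theorem additive {S Y : Subgroup G} (hS : IsPGroup p S) (hY : S ≤ Y) (Φ : ℕ → ℕ → Prop)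
    (h0 : Φ 0 0) (h1 : ∀ a b c d, Φ a b → Φ c d → Φ (a + c) (b + d)) {A : Set Ω} (hA : Inv Y A)
    (h2 : ∀ a ∈ A, Φ (fx S (orb Y a)) (mm p S (orb Y a))) : Φ (fx S A) (mm p S A) := by
  refine inv_induction (Y := Y) (Φ := fun A => Φ (fx S A) (mm p S A)) (by simpa [fx, mm]) ?_ A hA h2
  intro A B h hA hB e1 e2
  rw [fx_union S h, mm_union hS h (hA.mono hY) (hB.mono hY)]
  exact h1 _ _ _ _ e1 e2

theorem exists_moved {S : Sylow p G} {Y : Subgroup G} (hY : gen p Y = Y)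
    (h : (S : Subgroup G) ≤ Y) {b : Ω} (hb : ¬ Y ≤ stabilizer G b) :
    ∃ c ∈ orb Y b, ¬ (S : Subgroup G) ≤ stabilizer G c := by
  by_contra e
  push Not at e
  exact hb (le_fixing.1 (hY.ge.trans (gen_le_of_normal' h (le_fixing.2 e)
    (le_norm_fixing (inv_orb Y b)))) b (mem_orb_self Y b))

theorem mm_orb_pos {S : Sylow p G} {Y : Subgroup G} (hY : gen p Y = Y)
    (h : (S : Subgroup G) ≤ Y) {b : Ω} (hb : ¬ Y ≤ stabilizer G b) :
    0 < mm p (S : Subgroup G) (orb Y b) := by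
  obtain ⟨c, hc, h1⟩ := exists_moved hY h hb
  exact mm_pos S.isPGroup' ((inv_orb Y b).mono h) hc h1

theorem not_dvd_fx {S T : Sylow p G} {Y : Subgroup G} (h : (S : Subgroup G) ≤ Y) {b : Ω}
    (h1 : (T : Subgroup G) ≤ Y) (h2 : (T : Subgroup G) ≤ stabilizer G b) :
    ¬ p ∣ fx (S : Subgroup G) (orb Y b) := fun e => by
  refine not_dvd_relIndex h2 h1 ?_
  rw [← ncard_orb, ncard_eq S.isPGroup' ((inv_orb Y b).mono h)]
  exact dvd_add e (dvd_mul_right _ _)

theorem le_ncard_orb {Y : Subgroup G} (hY : gen p Y = Y) {b : Ω} (hb : ¬ Y ≤ stabilizer G b) :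
    p ≤ (orb Y b).ncard := by
  by_contra e
  exact hb (le_of_relIndex_lt hY (by rwa [ncard_orb, not_le] at e))

theorem trans_of_lt {Y : Subgroup G} (hY : gen p Y = Y) {A : Set Ω} (hA : Inv Y A)
    (h : A.ncard < 2 * p) (h1 : ∀ a ∈ A, ¬ Y ≤ stabilizer G a) {a : Ω} (ha : a ∈ A) :
    orb Y a = A := by
  refine (hA.orb_subset ha).antisymm fun b hb => ?_
  by_contra e
  have h2 := Set.ncard_le_ncard (Set.union_subset (hA.orb_subset ha) (hA.orb_subset hb))
  rw [Set.ncard_union_eq (orb_disjoint e)] at h2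
  have := le_ncard_orb hY (h1 a ha)
  have := le_ncard_orb hY (h1 b hb)
  omega

theorem eq_of_relIndex_lt {W M N : Subgroup G} (hW : gen p W = W) (h1 : M ≤ N) (h2 : N ≤ W)
    (h3 : ¬ W ≤ N) (h : M.relIndex W < 2 * p) : N ≤ M := by
  have h4 : p ≤ N.relIndex W := by
    by_contra e
    exact h3 (le_of_relIndex_lt hW (not_le.1 e))
  rw [← relIndex_mul_relIndex M N W h1 h2] at h
  have h5 : M.relIndex N ≠ 0 := relIndex_ne_zero' _ _
  have h6 : M.relIndex N < 2 := lt_of_mul_lt_mul_right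
    ((Nat.mul_le_mul_left _ h4).trans_lt h) (Nat.zero_le _)
  exact relIndex_eq_one.1 (by omega)

theorem eq_of_gen_le {S : Sylow p G} {W : Subgroup G} (hW : gen p W = W)
    (h : (S : Subgroup G) ≤ W) {a b : Ω} (ha : (S : Subgroup G) ≤ stabilizer G a)
    (h1 : (orb W a).ncard < 2 * p) (h2 : ¬ W ≤ stabilizer G a) (hb : b ∈ orb W a)
    (h3 : gen p (W ⊓ stabilizer G a) ≤ stabilizer G b) : b = a := by
  obtain ⟨w, hw, rfl⟩ := hb
  set X := gen p (W ⊓ stabilizer G a) with hX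
  have e1 : gen p (W ⊓ stabilizer G (w • a)) = w ⋆ X := by
    rw [hX, ← gen_conj, map_conj_inf, map_conj_eq_of_mem_normalizer (le_normalizer hw), stab_smul]
  have e2 : X = w ⋆ X := eq_of_le_of_card_le
    (e1 ▸ le_gen (gen_gen _) (le_inf ((gen_le _).trans inf_le_left) h3)) (card_map_conj _ _).le
  have e3 : W ⊓ 𝐍(X) ≤ W ⊓ stabilizer G a := by
    refine eq_of_relIndex_lt hW (le_inf inf_le_left (le_norm_gen _)) inf_le_left (fun e => h2 ?_) ?_
    · exact hW.ge.trans ((gen_le_of_normal' h (syl_le_gen (le_inf h ha))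
        (e.trans inf_le_right)).trans ((gen_le _).trans inf_le_right))
    · rwa [inf_comm, inf_relIndex_right, ← ncard_orb]
  exact (e3 ⟨hw, mem_normalizer_of_map_conj_eq e2.symm⟩).2

end act

end CfsgLib.SylNum
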