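import Cfsg.Agent.Lib.SylNum.Basic
import Cfsg.Agent.Lib.CoprimeSylow
import Cfsg.Agent.Lib.PComplement

/-!
# Coprime orbits and groups with a Sylow subgroup of prime order
-/

set_option autoImplicit false
set_option linter.unusedSectionVars false

namespace CfsgLib.SylNum

open Subgroup MulAction Cfsg CfsgLib.H1 CfsgLib.Cop
open scoped commutatorElement

theorem slope_iff {p f m v w a b : ℕ} (h : f * w = (f + p * m) * v) (hw : 0 < w)
    (hn : 0 < f + p * m) : a * v ≤ b * w ↔ a * f ≤ b * (f + p * m) := by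
  constructor
  · intro e
    refine Nat.le_of_mul_le_mul_right ?_ hw
    calc a * f * w = (f + p * m) * (a * v) := by rw [mul_assoc, h]; ring
      _ ≤ (f + p * m) * (b * w) := Nat.mul_le_mul_left _ e
      _ = _ := by ring
  · intro e
    refine Nat.le_of_mul_le_mul_right ?_ hn
    calc a * v * (f + p * m) = a * f * w := by rw [mul_assoc a f, h]; ring
      _ ≤ b * (f + p * m) * w := Nat.mul_le_mul_right _ e
      _ = _ := by ring

theorem slope_half {p f m : ℕ} (hp : 0 < p) :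
    (3 * p - 1) * f ≤ (p - 1) * (f + p * m) ↔ 2 * f + m ≤ p * m := by
  obtain ⟨q, rfl⟩ : ∃ q, p = q + 1 := ⟨p - 1, by omega⟩
  rw [show 3 * (q + 1) - 1 = 3 * q + 2 by omega, Nat.add_sub_cancel]
  constructor
  · intro h
    refine Nat.le_of_mul_le_mul_left ?_ hp
    nlinarith
  · intro h
    nlinarith [Nat.mul_le_mul_left (q + 1) h]

theorem slope_one {p f m : ℕ} (hp : 0 < p) :
    (2 * p - 1) * f ≤ (p - 1) * (f + p * m) ↔ f + m ≤ p * m := by
  obtain ⟨q, rfl⟩ : ∃ q, p = q + 1 := ⟨p - 1, by omega⟩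
  rw [show 2 * (q + 1) - 1 = 2 * q + 1 by omega, Nat.add_sub_cancel]
  constructor
  · intro h
    refine Nat.le_of_mul_le_mul_left ?_ hp
    nlinarith
  · intro h
    nlinarith [Nat.mul_le_mul_left (q + 1) h]

variable {G : Type*} [Group G] [Finite G] {p : ℕ} [hp : Fact p.Prime]

theorem card_mul_card_le {A B T : Subgroup G} (hA : A ≤ T) (hB : B ≤ T) :
    Nat.card A * Nat.card B ≤ Nat.card T * Nat.card ↥(B ⊓ A) := by
  rw [← card_inf_mul_relIndex B A, ← card_mul_relIndex hB]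
  have := relIndex_le_of_le_right (H := B) hA (relIndex_ne_zero' _ _)
  nlinarith [Nat.mul_le_mul_left (Nat.card B * Nat.card ↥(B ⊓ A)) this]

theorem cop_dvd {S R N : Subgroup G} (hS : IsPGroup p S) (hR : ¬ p ∣ Nat.card R) (hN : N ≤ R)
    (h1 : S ≤ 𝐍(R)) (h2 : S ≤ 𝐍(N)) :
    Nat.card ↥(R ⊓ 𝐂(S)) * Nat.card N ∣ Nat.card R * Nat.card ↥(N ⊓ 𝐂(S)) := by
  obtain ⟨k, hk⟩ := hS.exists_card_eq
  have c1 : (Nat.card S).Coprime (Nat.card R) :=
    hk ▸ ((Nat.Prime.coprime_iff_not_dvd hp.out).2 hR).pow_left k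
  have c2 : (Nat.card S).Coprime (Nat.card N) := c1.coprime_dvd_right (card_dvd_of_le hN)
  have hs := solvable_of_isPGroup hS
  rw [← Nat.factorization_prime_le_iff_dvd (mul_ne_zero Nat.card_pos.ne' Nat.card_pos.ne')
    (mul_ne_zero Nat.card_pos.ne' Nat.card_pos.ne')]
  intro r hr
  have := Fact.mk hr
  obtain ⟨T0, h3, h4⟩ := exists_invariant_sylowOf r h2 c2 (Or.inl hs)
  have h3' : IsSylowIn r T0 N := isPiHallOf_singleton_iff.1 h3
  obtain ⟨T, h5, h6, h7⟩ := exists_invariant_sylowOf_ge h1 c1 (Or.inl hs) h3'.isPGroup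
    (h3'.le.trans hN) h4
  have h5' : IsSylowIn r T R := isPiHallOf_singleton_iff.1 h5
  have h8 : IsSylowIn r _ _ :=
    isPiHallOf_singleton_iff.1 (sylowOf_inf_centralizer h1 c1 (Or.inl hs) h5 h6)
  have h9 : IsSylowIn r _ _ :=
    isPiHallOf_singleton_iff.1 (sylowOf_inf_centralizer h2 c2 (Or.inl hs) h3 h4)
  have h10 := card_mul_card_le (A := T ⊓ 𝐂(S)) inf_le_left h7
  rw [← inf_assoc, inf_eq_left.2 h7, h8.card_eq_ordProj, h3'.card_eq_ordProj, h5'.card_eq_ordProj,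
    h9.card_eq_ordProj, ← pow_add, ← pow_add] at h10
  rw [Nat.factorization_mul Nat.card_pos.ne' Nat.card_pos.ne',
    Nat.factorization_mul Nat.card_pos.ne' Nat.card_pos.ne']
  exact (Nat.pow_le_pow_iff_right hr.one_lt).1 h10

theorem cop_orbit {Ω : Type*} [MulAction G Ω] [Finite Ω] {S R : Subgroup G} (hS : IsPGroup p S)
    (hR : ¬ p ∣ Nat.card R) (h1 : S ≤ 𝐍(R)) {b : Ω} (hb : S ≤ stabilizer G b)
    (hm : 0 < mm p S (orb R b)) : fx S (orb R b) ≤ mm p S (orb R b) := by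
  have h2 : S ≤ 𝐍(R ⊓ stabilizer G b) := le_normalizer_inf h1 (hb.trans le_normalizer)
  have h3 : orb R b ∩ Fx S = orb (R ⊓ 𝐂(S)) b := by
    ext x
    constructor
    · rintro ⟨⟨r, hr, rfl⟩, hx⟩
      obtain ⟨k, hk⟩ := hS.exists_card_eq
      obtain ⟨n, hn, c, hc, e⟩ := exists_mul_centralizer_of_commutator_mem h2
        (hk ▸ (((Nat.Prime.coprime_iff_not_dvd hp.out).2 hR).pow_left k).coprime_dvd_right
          (card_dvd_of_le inf_le_left)) (Or.inl (solvable_of_isPGroup hS)) (g := r⁻¹)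
        fun a ha => mem_inf.2 ⟨by
          rw [commutatorElement_def, inv_inv, mul_assoc, mul_assoc, ← mul_assoc a]
          exact mul_mem (inv_mem hr) (conj_mem_of_mem_normalizer (h1 ha) hr), by
          have e1 : a⁻¹ • b = b := hb (inv_mem ha)
          have e2 : a • r • b = r • b := hx ha
          change _ • b = b
          rw [commutatorElement_def, inv_inv, mul_smul, mul_smul, mul_smul, e1, e2, inv_smul_smul]⟩
      refine ⟨c⁻¹, inv_mem (mem_inf.2 ⟨?_, hc⟩), ?_⟩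
      · rw [eq_inv_mul_of_mul_eq e]
        exact mul_mem (inv_mem (mem_inf.1 hn).1) (inv_mem hr)
      · have e1 : n⁻¹ • b = b := inv_mem (mem_inf.1 hn).2
        rw [← inv_inv r, ← e, mul_inv_rev, mul_smul, e1]
    · rintro ⟨c, hc, rfl⟩
      refine ⟨smul_mem_orb hc.1 b, fun s hs => ?_⟩
      have e1 : s • b = b := hb hs
      change s • c • b = c • b
      rw [← mul_smul, mem_centralizer_iff.1 hc.2 s hs, mul_smul, e1]
  have h4 : Inv S (orb R b) := by
    rintro s hs _ ⟨r, hr, rfl⟩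
    have e1 : s⁻¹ • b = b := hb (inv_mem hs)
    exact ⟨_, conj_mem_of_mem_normalizer (h1 hs) hr, by rw [mul_smul, mul_smul, e1]⟩
  have h5 : fx S (orb R b) ∣ (orb R b).ncard := by
    have := cop_dvd hS hR inf_le_left h1 h2
    rw [← card_inf_mul_relIndex (stabilizer G b) R,
      ← card_inf_mul_relIndex (stabilizer G b) (R ⊓ 𝐂(S)), ← inf_assoc, inf_comm _ R,
      mul_right_comm, mul_right_comm (Nat.card ↥(R ⊓ stabilizer G b)),
      mul_comm (Nat.card ↥(R ⊓ stabilizer G b))] at this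
    rw [fx, h3, ncard_orb, ncard_orb]
    exact Nat.dvd_of_mul_dvd_mul_left (mul_pos Nat.card_pos Nat.card_pos) this
  have h6 : ¬ p ∣ fx S (orb R b) := fun e => hR ((e.trans h5).trans (by
    rw [ncard_orb]
    exact relIndex_dvd_card _ _))
  rw [ncard_eq hS h4, Nat.dvd_add_right dvd_rfl] at h5
  exact Nat.le_of_dvd hm (((Nat.Prime.coprime_iff_not_dvd hp.out).2 h6).symm.dvd_of_dvd_mul_left h5)

theorem burnside' {S X : Subgroup G} (hS : IsSylowIn p S X) (h : X ⊓ 𝐍(S) ≤ 𝐂(S)) :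
    (∀ g ∈ X, (orderOf g).Coprime p → g ∈ piCoreOf {p}ᶜ X) ∧ piCoreOf {p}ᶜ X ⊔ S = X := by
  obtain ⟨P, hP⟩ := hS.exists_sylow
  have hn : HasNormalPComplement p X := by
    refine PCompl.hnpc_of_normalizer_le_centralizer P fun g hg => ?_
    rw [hP] at hg ⊢
    have h1 : (g : G) ∈ 𝐍(S) := mem_normalizer_of_conj_mem fun x hx =>
      conj_mem_of_mem_normalizer (x := ⟨x, hS.le hx⟩) hg hx
    exact mem_centralizer_iff.2 fun x hx =>
      Subtype.ext (mem_centralizer_iff.1 (h ⟨g.2, h1⟩) x hx)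
  rw [← H1.map_pPrimeCore_eq_piCoreOf, PCompl.hnpc_pPrimeCore_eq_pResidual hn]
  refine ⟨fun g hg hc => ⟨⟨g, hg⟩, ?_, rfl⟩, ?_⟩
  · rw [SetLike.mem_coe, PCompl.hnpc_mem_pResidual_iff hn, ← orderOf_coe]
    exact hc
  · have h1 := (PCompl.hnpc_isComplement' hn P).sup_eq_top
    rw [← H1.map_subtype_subgroupOf hS.le, ← hP, ← Subgroup.map_sup, h1, ← MonoidHom.range_eq_map,
      range_subtype]

theorem relIndex_cent_le {S : Subgroup G} (h : Nat.card S = p) :
    (𝐂(S)).relIndex 𝐍(S) ≤ p - 1 := by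
  have := isCyclic_of_prime_card h
  rw [relIndex, ← normalizerMonoidHom_ker, index_ker, ← Nat.totient_prime hp.out, ← h,
    ← IsCyclic.card_mulAut]
  exact card_le_card_group _

theorem le_cent_of_card {S : Subgroup G} (h : Nat.card S = p) : S ≤ 𝐂(S) := fun x hx =>
  mem_centralizer_iff.2 fun y hy => by
    have := isCyclic_of_prime_card h
    obtain ⟨g, hg⟩ := IsCyclic.exists_generator (α := S)
    obtain ⟨a, ha⟩ := hg ⟨x, hx⟩
    obtain ⟨b, hb⟩ := hg ⟨y, hy⟩
    have e1 : (g : G) ^ a = x := congrArg Subtype.val ha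
    have e2 : (g : G) ^ b = y := congrArg Subtype.val hb
    rw [← e1, ← e2]
    exact (Commute.zpow_zpow_self _ _ _).eq

theorem inf_eq_bot_of_card {S K : Subgroup G} (h : Nat.card S = p) (h1 : ¬ S ≤ K) : S ⊓ K = ⊥ := by
  rcases (Nat.dvd_prime hp.out).1 (h ▸ card_dvd_of_le (inf_le_left : S ⊓ K ≤ S)) with e | e
  · exact card_eq_one.1 e
  · exact absurd (inf_eq_left.1 (eq_of_le_of_card_le inf_le_left (h.trans e.symm).le)) h1

theorem stab_base (H : Subgroup G) : stabilizer G ((1 : G) : G ⧸ H) = H := stabilizer_quotient H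

variable {Ω : Type*} [MulAction G Ω] [Finite Ω]

theorem ratio_of_slope {S : Sylow p G} {U : Subgroup G} (h : (S : Subgroup G) ≤ U) (b : Ω)
    {a c : ℕ} : a * nu p (U ⊓ stabilizer G b) ≤ c * nu p U ↔ a * fx (S : Subgroup G) (orb U b) ≤
      c * (fx (S : Subgroup G) (orb U b) + p * mm p (S : Subgroup G) (orb U b)) := by
  have h1 := ncard_eq S.isPGroup' ((inv_orb U b).mono h)
  exact slope_iff (h1 ▸ fx_mul_nu h b) (nu_pos h)
    (h1 ▸ (Set.ncard_pos (Set.toFinite _)).2 ⟨b, mem_orb_self U b⟩)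

theorem desc_base (h3 : 3 ≤ p) {S : Sylow p G} (hS : Nat.card (S : Subgroup G) = p)
    {Z U : Subgroup G} (hU : gen p U = U) (h1 : (S : Subgroup G) ≤ Z) (h2 : Z ≤ U) (h4 : ¬ U ≤ Z)
    {T : Set Ω} (hT : Inv U T) (h5 : T.ncard < 2 * p) (h6 : T.Nonempty)
    (h7 : ∀ t ∈ T, ¬ (S : Subgroup G) ≤ stabilizer G t) :
    (3 * p - 1) * nu p Z ≤ (p - 1) * nu p U := by
  have hSU := h1.trans h2
  set K := U ⊓ fixingSubgroup G T with hK
  have k1 : U ≤ 𝐍(K) := le_normalizer_inf le_normalizer (le_norm_fixing hT)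
  have k2 : ¬ (S : Subgroup G) ≤ K := fun e =>
    h7 _ h6.choose_spec (le_fixing.1 (e.trans inf_le_right) _ h6.choose_spec)
  have k3 : ¬ p ∣ Nat.card K := by
    have := (IsSylowIn.of_sylow S hSU).inf_of_le_normalizer inf_le_left (hSU.trans k1)
    rwa [inf_eq_bot_of_card hS k2, IsSylowIn.bot_iff] at this
  have k4 : ∀ t ∈ T, orb (S : Subgroup G) t = T := fun t ht =>
    trans_of_lt (gen_of_isPGroup S.isPGroup') (hT.mono hSU) h5 h7 ht
  by_cases h8 : U ≤ K ⊔ Z
  · have e1 : orb K ((1 : G) : G ⧸ Z) = orb U ((1 : G) : G ⧸ Z) := by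
      refine (orb_mono inf_le_left _).antisymm ?_
      rintro _ ⟨u, hu, rfl⟩
      obtain ⟨k, hk, z, hz, rfl⟩ := (mem_sup_iff_of_le_normalizer' (h2.trans k1)).1 (h8 hu)
      have : z • ((1 : G) : G ⧸ Z) = ((1 : G) : G ⧸ Z) := (stab_base Z).ge hz
      exact ⟨k, hk, by rw [mul_smul, this]⟩
    have e2 := mm_orb_pos hU hSU (b := ((1 : G) : G ⧸ Z)) (by rwa [stab_base])
    have e3 := cop_orbit S.isPGroup' k3 (hSU.trans k1) (b := ((1 : G) : G ⧸ Z))
      (by rwa [stab_base]) (e1 ▸ e2)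
    have e4 := (ratio_of_slope hSU ((1 : G) : G ⧸ Z) (a := 3 * p - 1) (c := p - 1)).2
      ((slope_half hp.out.pos).2 (by rw [e1] at e3; nlinarith))
    rwa [stab_base, inf_eq_right.2 h2] at e4
  obtain ⟨W, w1, w2⟩ := Finite.exists_le_maximal (p := fun W => W < U) (a := K ⊔ Z)
    (lt_of_le_of_ne (sup_le inf_le_left h2) fun e => h8 e.ge)
  have hSW : (S : Subgroup G) ≤ W := h1.trans (le_sup_right.trans w1)
  have hWU : W ≤ U := w2.1.le
  have c1 : 𝐂((S : Subgroup G)) ⊓ U ≤ W := fun c hc => by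
    obtain ⟨t, ht⟩ := h6
    obtain ⟨x, hx, e⟩ := (k4 t ht).ge (hT c hc.2 t ht)
    have : x⁻¹ * c ∈ K := mem_inf.2 ⟨mul_mem (inv_mem (hSU hx)) hc.2, (mem_fixingSubgroup_iff G).2
      fun z hz => by
        obtain ⟨y, hy, rfl⟩ := (k4 t ht).ge hz
        rw [mul_smul, ← mul_smul c, ← mem_centralizer_iff.1 hc.1 y hy, mul_smul, ← e, ← mul_smul y,
          mem_centralizer_iff.1 (le_cent_of_card hS hx) y hy, mul_smul, inv_smul_smul]⟩
    simpa using mul_mem (hSW hx) (w1 (mem_sup_left this))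
  set N := 𝐍((S : Subgroup G))
  have c2 : 2 * (N ⊓ W).relIndex (N ⊓ U) ≤ p - 1 := by
    have d1 := (relIndex_le_of_le_right (H := 𝐂((S : Subgroup G))) (inf_le_left : N ⊓ U ≤ N)
      (relIndex_ne_zero' _ _)).trans (relIndex_cent_le hS)
    rw [← inf_relIndex_right, ← relIndex_mul_relIndex _ (N ⊓ W) (N ⊓ U)
      (le_inf (inf_le_right.trans inf_le_left) ((inf_le_inf_left _ inf_le_right).trans c1))
      (inf_le_inf_left N hWU)] at d1
    by_cases d2 : (𝐂((S : Subgroup G)) ⊓ (N ⊓ U)).relIndex (N ⊓ W) = 1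
    · obtain ⟨b1, b2⟩ := burnside' (IsSylowIn.of_sylow S hSW)
        (inf_comm W N ▸ (relIndex_eq_one.1 d2).trans inf_le_left)
      set R := piCoreOf {p}ᶜ W
      have r1 : (Nat.card R).Coprime p := piCoreOf_compl_coprime p W
      have r2 : Nat.card W = Nat.card R * p := by
        rw [← b2, sup_comm, card_sup_of_disjoint (hSW.trans (le_normalizer_piCoreOf W))
          (inf_eq_bot_of_card hS fun e => (Nat.Prime.coprime_iff_not_dvd hp.out).1 r1.symm
            (hS ▸ card_dvd_of_le e)), hS, mul_comm]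
      have r3 : R ≤ K := le_inf ((piCoreOf_le W).trans hWU) (le_fixing.2 fun t ht => by
        have t1 : (stabilizer G t).relIndex W = p := by
          rw [← ncard_orb, ((hT.mono hWU).orb_subset ht).antisymm
            ((k4 t ht).ge.trans (orb_mono hSW t)), ← k4 t ht, ncard_orb]
          exact (Nat.dvd_antisymm (dvd_relIndex S.isPGroup' (h7 t ht))
            ((relIndex_dvd_card _ _).trans hS.dvd)).symm
        have t2 := card_inf_mul_relIndex (stabilizer G t) W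
        rw [t1, r2] at t2
        have t3 := Nat.eq_of_mul_eq_mul_right hp.out.pos t2
        have t4 : stabilizer G t ⊓ W ≤ R := fun g hg => b1 g hg.2
          (Nat.Coprime.coprime_dvd_left (t3 ▸ orderOf_dvd_natCard _ hg) r1)
        exact (eq_of_le_of_card_le t4 t3.ge).ge.trans inf_le_left)
      have r4 : W = K ⊔ S := le_antisymm (b2.ge.trans (sup_le_sup_right r3 _))
        (sup_le (le_sup_left.trans w1) hSW)
      have r5 : U ⊓ 𝐍(W) ≤ W := w2.2 (lt_of_le_of_ne inf_le_left fun e => w2.1.not_ge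
        (hU.ge.trans (gen_le_of_normal' hSU hSW (inf_eq_left.1 e)))) (le_inf hWU le_normalizer)
      have r6 : N ⊓ U ≤ N ⊓ W := le_inf inf_le_left (le_trans (le_inf inf_le_right
        (r4 ▸ le_normalizer_sup (inf_le_right.trans k1) inf_le_left)) r5)
      rw [relIndex_eq_one.2 r6]
      omega
    · have d3 := relIndex_ne_zero' (𝐂((S : Subgroup G)) ⊓ (N ⊓ U)) (N ⊓ W)
      exact (Nat.mul_le_mul_right _ (by omega)).trans d1
  have c3 : fx (S : Subgroup G) (orb U ((1 : G) : G ⧸ W)) = (N ⊓ W).relIndex (N ⊓ U) := by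
    refine Nat.eq_of_mul_eq_mul_right (nu_pos hSU) ?_
    rw [fx_mul_nu hSU, stab_base, inf_eq_right.2 hWU, ncard_orb, stab_base, nu_eq_relIndex hSU,
      nu_eq_relIndex hSW, ← inf_relIndex_right N U, ← inf_relIndex_right N W,
      relIndex_mul_relIndex _ _ _ (inf_le_inf_left N hWU) inf_le_right, mul_comm,
      relIndex_mul_relIndex _ _ _ inf_le_right hWU]
  have e2 := mm_orb_pos hU hSU (b := ((1 : G) : G ⧸ W)) (by rw [stab_base]; exact w2.1.not_ge)
  have e4 := (ratio_of_slope hSU ((1 : G) : G ⧸ W) (a := 3 * p - 1) (c := p - 1)).2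
    ((slope_half hp.out.pos).2 (by
      rw [c3]
      obtain ⟨q, rfl⟩ : ∃ q, p = q + 1 := ⟨p - 1, by omega⟩
      rw [Nat.add_sub_cancel] at c2
      nlinarith))
  rw [stab_base, inf_eq_right.2 hWU] at e4
  exact (Nat.mul_le_mul_left _ (nu_mono (le_sup_right.trans w1))).trans e4

theorem desc (h3 : 3 ≤ p) {S : Sylow p G} (hS : Nat.card (S : Subgroup G) = p) (T : Set Ω) :
    ∀ {Z U : Subgroup G}, gen p U = U → gen p Z = Z → (S : Subgroup G) ≤ Z → Z ≤ U → ¬ U ≤ Z →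
      Inv U T → T.ncard < 2 * p → T.Nonempty → (∀ t ∈ T, ¬ Z ≤ stabilizer G t) →
      (3 * p - 1) * nu p Z ≤ (p - 1) * nu p U := by
  induction T using WellFoundedLT.induction with
  | ind T ih =>
  intro Z U hU hZ h1 h2 h4 hT h5 h6 h7
  by_cases h8 : ∀ t ∈ T, ¬ (S : Subgroup G) ≤ stabilizer G t
  · exact desc_base h3 hS hU h1 h2 h4 hT h5 h6 h8
  push Not at h8
  obtain ⟨s, hs, h8⟩ := h8
  have hSU := h1.trans h2
  have h9 : ∀ t ∈ T, ¬ U ≤ stabilizer G t := fun t ht e => h7 t ht (h2.trans e)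
  have e1 := trans_of_lt hZ (hT.mono h2) h5 h7 hs
  have e2 := trans_of_lt hU hT h5 h9 hs
  have f1 := fx_mul_nu h1 s
  have f2 := fx_mul_nu hSU s
  rw [e1, ← nu_gen (Z ⊓ _)] at f1
  rw [e2, ← nu_gen (U ⊓ _)] at f2
  have f0 := fx_pos hs h8
  have := ih (T \ {s}) (Set.diff_subset.ssubset_of_ne fun e => (e.ge hs).2 rfl)
    (gen_gen (U ⊓ stabilizer G s)) (gen_gen (Z ⊓ stabilizer G s)) (syl_le_gen (le_inf h1 h8))
    (gen_mono (inf_le_inf_right _ h2)) (fun e => h4 (hU.ge.trans (le_of_nu_le hSU h2 ?_)))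
    ((hT.mono ((gen_le _).trans inf_le_left)).diff
      (inv_singleton ((gen_le _).trans inf_le_right)))
    ((Set.ncard_le_ncard Set.diff_subset).trans_lt h5) ?_
    fun t ht e => ht.2 (eq_of_gen_le hZ h1 h8 (e1 ▸ h5) (h7 s hs) (e1 ▸ ht.1) e)
  · refine Nat.le_of_mul_le_mul_left ?_ f0
    rw [mul_left_comm, f1, mul_left_comm _ (p - 1), f2, mul_left_comm, mul_left_comm (p - 1)]
    exact Nat.mul_le_mul_left _ this
  · refine Nat.le_of_mul_le_mul_left ?_ f0
    rw [f1, f2]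
    exact Nat.mul_le_mul_left _ (nu_mono e)
  · obtain ⟨c, hc, e⟩ := exists_moved hZ h1 (h7 s hs)
    exact ⟨c, e1 ▸ hc, fun e' => e (e' ▸ h8)⟩

end CfsgLib.SylNum
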